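import Cfsg.Agent.H31.QuadLimit.Limit
import Cfsg.Agent.H63.PGVMain
import Cfsg.Agent.H31.SL2Pair.Offender

/-!
A quadratic offender normal in its normal closure.
-/

set_option autoImplicit false

namespace Cfsg.Agent.H31.QuadLimit

open Cfsg.Agent.H63

universe u v

theorem exists_mem_normalizing {G : Type u} [Group G] (hnc : NormalizerCondition G) (D : Set G)
    (hD : ∀ g : G, ∀ x ∈ D, g * x * g⁻¹ ∈ D) (H : Subgroup G) (h : ∃ x ∈ D, x ∉ H) :
    ∃ x ∈ D, x ∉ H ∧ ∀ y ∈ D, y ∈ H → x⁻¹ * y * x ∈ H := by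
  set R := Subgroup.closure (D ∩ (H : Set G)) with hR
  have hRH : R ≤ H := (Subgroup.closure_le H).mpr Set.inter_subset_right
  set K := Subgroup.normalizer (R : Set G) with hK
  by_contra hc
  have hDK : ∀ y ∈ D, y ∈ K → y ∈ H := by
    intro y hy hyK
    by_contra hyH
    refine hc ⟨y, hy, hyH, fun z hz hzH => hRH ?_⟩
    have := (Subgroup.mem_normalizer_iff.mp (inv_mem hyK) z).mp (Subgroup.subset_closure ⟨hz, hzH⟩)
    rwa [inv_inv] at this
  have hset : D ∩ (H : Set G) = D ∩ (K : Set G) :=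
    Set.ext fun y => ⟨fun hy => ⟨hy.1, Subgroup.le_normalizer (Subgroup.subset_closure hy)⟩,
      fun hy => ⟨hy.1, hDK y hy.1 hy.2⟩⟩
  have hKK : Subgroup.normalizer (K : Set G) ≤ K := by
    have key : ∀ g ∈ Subgroup.normalizer (K : Set G), ∀ r ∈ R, g * r * g⁻¹ ∈ R := by
      intro g hg r hr
      have h1 : R ≤ R.comap (MulAut.conj g).toMonoidHom := by
        rw [hR, Subgroup.closure_le]
        intro y hy
        refine Subgroup.subset_closure ?_
        rw [hset] at hy ⊢
        exact ⟨hD g y hy.1, (Subgroup.mem_normalizer_iff.mp hg y).mp hy.2⟩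
      exact h1 hr
    intro g hg
    refine Subgroup.mem_normalizer_iff.mpr fun r => ⟨key g hg r, fun hr => ?_⟩
    have := key g⁻¹ (inv_mem hg) _ hr
    simpa [mul_assoc] using this
  have htop : K = ⊤ := by
    by_contra hne
    exact absurd hKK (not_le_of_gt (hnc K (lt_top_iff_ne_top.mpr hne)))
  obtain ⟨x, hx, hxH⟩ := h
  exact hxH (hDK x hx (htop ▸ Subgroup.mem_top x))

variable {G : Type u} [Group G] {V : Type v} [AddCommGroup V] [DistribMulAction G V]

local notation "e" => DistribMulAction.toAddMonoidEnd G V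

/-- The elements centralising `C` and `V / C`. -/
def NC (G : Type u) [Group G] [DistribMulAction G V] (C : AddSubgroup V) : Subgroup G where
  carrier := {g | (∀ c ∈ C, g • c = c) ∧ ∀ v, g • v - v ∈ C}
  one_mem' := ⟨fun c _ => one_smul G c, fun v => by rw [one_smul, sub_self]; exact zero_mem C⟩
  mul_mem' := fun {g h} hg hh => ⟨fun c hc => by rw [mul_smul, hh.1 c hc, hg.1 c hc], fun v => by
    have e1 : (g * h) • v - v = g • (h • v - v) + (g • v - v) := by rw [smul_sub, mul_smul]; abel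
    rw [e1, hg.1 _ (hh.2 v)]; exact add_mem (hh.2 v) (hg.2 v)⟩
  inv_mem' := fun {g} hg => ⟨fun c hc => by rw [inv_smul_eq_iff, hg.1 c hc], fun v => by
    have := neg_mem (hg.2 (g⁻¹ • v))
    rwa [smul_inv_smul, neg_sub] at this⟩

/-- The members of the chain of fixed spaces. -/
def chain (G : Type u) [Group G] (V : Type v) [AddCommGroup V] [DistribMulAction G V] : ℕ → AddSubgroup V
  | 0 => ⊥
  | i + 1 =>
    { carrier := {v | ∀ g : G, g • v - v ∈ chain G V i}
      zero_mem' := fun g => by rw [smul_zero, sub_self]; exact zero_mem _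
      add_mem' := fun {v w} hv hw g => by
        have := add_mem (hv g) (hw g)
        rwa [sub_add_sub_comm, ← smul_add] at this
      neg_mem' := fun {v} hv g => by
        have := neg_mem (hv g)
        rwa [neg_sub', ← smul_neg] at this }

theorem chain_smul : ∀ (i : ℕ) (g : G), ∀ v ∈ chain G V i, g • v ∈ chain G V i
  | 0, g, v, hv => by rw [chain, AddSubgroup.mem_bot] at hv ⊢; rw [hv, smul_zero]
  | i + 1, g, v, hv => fun h => by
    have e1 : h • (g • v) - g • v = ((h * g) • v - v) - (g • v - v) := by rw [mul_smul]; abel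
    rw [e1]; exact sub_mem (hv _) (hv g)

theorem chain_le (i : ℕ) : chain G V i ≤ chain G V (i + 1) := fun v hv g =>
  sub_mem (chain_smul i g v hv) hv

theorem chain_top [Finite V] {p : ℕ} [Fact p.Prime] (hG : IsPGroup p G) (hV : ∀ v : V, p • v = 0) :
    ∃ n, chain G V n = ⊤ := by
  by_contra hne
  push_neg at hne
  have hgrow : ∀ i, Nat.card (chain G V i) < Nat.card (chain G V (i + 1)) := by
    intro i
    refine lt_of_not_ge fun hle => hne i ?_
    have he := AddSubgroup.eq_of_le_of_card_ge (chain_le i) hle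
    by_contra hi
    letI := SL2Pair.quotSmul (chain G V i) (chain_smul (G := G) (V := V) i)
    have hd : p ∣ Nat.card (V ⧸ chain G V i) := by
      obtain ⟨v, hv⟩ : ∃ v, v ∉ chain G V i := by
        by_contra h
        push_neg at h
        exact hi (eq_top_iff.mpr fun v _ => h v)
      have h1 : addOrderOf (QuotientAddGroup.mk v : V ⧸ chain G V i) = p :=
        addOrderOf_eq_prime (by rw [← QuotientAddGroup.mk_nsmul, hV]; rfl)
          fun h => hv ((QuotientAddGroup.eq_zero_iff v).mp h)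
      exact h1 ▸ addOrderOf_dvd_natCard _
    obtain ⟨b, hb, hb0⟩ := hG.exists_fixed_point_of_prime_dvd_card_of_fixed_point (V ⧸ chain G V i) hd
      (a := 0) (fun g => smul_zero g)
    obtain ⟨v, rfl⟩ := QuotientAddGroup.mk_surjective b
    refine hb0 ((QuotientAddGroup.eq_zero_iff v).mpr (he ▸ fun g => ?_)).symm
    exact QuotientAddGroup.eq_iff_sub_mem.mp (hb g)
  have : ∀ i, i < Nat.card (chain G V i) := fun i => by
    induction i with
    | zero => exact Nat.card_pos
    | succ i ih => have := hgrow i; omega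
  have := (this (Nat.card V)).trans_le (Nat.card_le_card_of_injective _ Subtype.val_injective)
  exact lt_irrefl _ this

theorem card_lim [Finite V] (β : AddMonoid.End V) (hbb : β * β = 0) (C : AddSubgroup V) :
    Nat.card (lim β C) = Nat.card C := by
  have bb : ∀ v, β (β v) = 0 := fun v => DFunLike.congr_fun hbb v
  set E₀ := C ⊓ C.comap β
  let f : C →+ V := β.comp C.subtype
  let g : E₀ →+ V := β.comp E₀.subtype
  have h1 := AddSubgroup.card_mul_index f.ker
  rw [AddSubgroup.index_ker] at h1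
  have h2 := AddSubgroup.card_mul_index g.ker
  rw [AddSubgroup.index_ker] at h2
  have hf : f.range = C.map β := by
    ext w
    exact ⟨fun ⟨c, hc⟩ => ⟨c, c.2, hc⟩, fun ⟨c, hc, hcw⟩ => ⟨⟨c, hc⟩, hcw⟩⟩
  have hg : g.range = E₀ ⊓ C.map β := by
    apply le_antisymm
    · rintro _ ⟨⟨c, hc⟩, rfl⟩
      obtain ⟨hc1, hc2⟩ := AddSubgroup.mem_inf.mp hc
      refine AddSubgroup.mem_inf.mpr ⟨AddSubgroup.mem_inf.mpr ⟨hc2, ?_⟩, c, hc1, rfl⟩
      show β (β c) ∈ C
      rw [bb]; exact zero_mem C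
    · rintro w hw
      obtain ⟨hw1, c, hc, rfl⟩ := AddSubgroup.mem_inf.mp hw
      exact ⟨⟨c, AddSubgroup.mem_inf.mpr ⟨hc, (AddSubgroup.mem_inf.mp hw1).1⟩⟩, rfl⟩
  have hker : Nat.card f.ker = Nat.card g.ker := Nat.card_congr
    { toFun := fun c => ⟨⟨(c.1 : V), AddSubgroup.mem_inf.mpr ⟨c.1.2, by
        show β (c.1 : V) ∈ C
        rw [show β (c.1 : V) = 0 from c.2]; exact zero_mem C⟩⟩, c.2⟩
      invFun := fun c => ⟨⟨(c.1 : V), (AddSubgroup.mem_inf.mp c.1.2).1⟩, c.2⟩
      left_inv := fun _ => rfl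
      right_inv := fun _ => rfl }
  have h3 := card_sup_inf_add E₀ (C.map β)
  rw [← hg, ← hf] at h3
  have h4 : lim β C = E₀ ⊔ f.range := by rw [hf]; rfl
  rw [h4]
  refine Nat.eq_of_mul_eq_mul_right (Nat.card_pos (α := g.range)) ?_
  rw [← h3, ← h1, ← h2, hker]
  ring

theorem exists_quadratic_offender [Finite G] [Finite V] {p : ℕ} [Fact p.Prime] (hp : 5 ≤ p)
    (hG : IsPGroup p G) (hV : ∀ v : V, p • v = 0) (hfaith : ∀ g : G, (∀ v : V, g • v = v) → g = 1)
    (hF : ∃ A : Subgroup G, A ≠ ⊥ ∧ (∀ a ∈ A, ∀ b ∈ A, a * b = b * a) ∧ (∀ a ∈ A, a ^ p = 1) ∧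
      Nat.card V ≤ mS V A) :
    ∃ A : Subgroup G, A ≠ ⊥ ∧ (∀ a ∈ A, ∀ b ∈ A, a * b = b * a) ∧ (∀ a ∈ A, a ^ p = 1) ∧
      Nat.card V ≤ mS V A ∧ (∀ a ∈ A, ∀ b ∈ A, ∀ v : V, b • (a • v - v) = a • v - v) ∧
      ∀ g ∈ Subgroup.closure {x : G | ∃ h : G, ∃ a ∈ A, x = h * a * h⁻¹}, ∀ a ∈ A, g * a * g⁻¹ ∈ A := by
  classical
  have : Fintype V := Fintype.ofFinite V
  have : Fintype G := Fintype.ofFinite G
  have : Finite (AddSubgroup V) := Finite.of_injective _ SetLike.coe_injective
  have : Fintype (AddSubgroup V) := Fintype.ofFinite _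
  have einj : Function.Injective e := fun g h hgh => by
    have := hfaith (h⁻¹ * g) fun v => by
      rw [mul_smul, show g • v = h • v from DFunLike.congr_fun hgh v, inv_smul_smul]
    exact (inv_mul_eq_one.mp this).symm
  have hcomm : ∀ C : AddSubgroup V, ∀ a ∈ NC G C, ∀ b ∈ NC G C, a * b = b * a := by
    intro C a ha b hb
    refine einj (AddMonoidHom.ext fun v => ?_)
    show (a * b) • v = (b * a) • v
    have h1 : a • (b • v) = a • v + (b • v - v) := by
      conv_lhs => rw [show b • v = v + (b • v - v) by abel, smul_add, ha.1 _ (hb.2 v)]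
    have h2 : b • (a • v) = b • v + (a • v - v) := by
      conv_lhs => rw [show a • v = v + (a • v - v) by abel, smul_add, hb.1 _ (ha.2 v)]
    rw [mul_smul, mul_smul, h1, h2]; abel
  have hexp : ∀ C : AddSubgroup V, ∀ a ∈ NC G C, a ^ p = 1 := by
    intro C a ha
    refine hfaith _ fun v => ?_
    have h1 : ∀ n : ℕ, (a ^ n) • v = v + n • (a • v - v) := fun n => by
      induction n with
      | zero => simp
      | succ n ih =>
        rw [pow_succ', mul_smul, ih, smul_add, ha.1 _ (nsmul_mem (ha.2 v) n), succ_nsmul]; abel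
    rw [h1, hV, add_zero]
  -- the logarithms
  let M : Submonoid (AddMonoid.End V) := MonoidHom.mrange e
  have hlogs : ∀ C : AddSubgroup V, Nat.card (logs hV M C) = Nat.card (NC G C) := by
    intro C
    refine (Nat.card_eq_of_bijective (fun g : NC G C => (⟨e (g : G) - 1,
      ⟨fun c hc => sub_eq_zero.mpr (g.2.1 c hc), g.2.2⟩,
      ⟨(g : G), (add_sub_cancel _ _).symm⟩⟩ : logs hV M C)) ⟨fun g h hgh => ?_, fun f => ?_⟩).symm
    · exact Subtype.ext (einj (sub_left_inj.mp (congrArg Subtype.val hgh :)))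
    · obtain ⟨g, hg⟩ := f.2.2
      have hf : ∀ v, g • v - v = (f : AddMonoid.End V) v := fun v => by
        rw [show g • v = v + (f : AddMonoid.End V) v from DFunLike.congr_fun hg v, add_sub_cancel_left]
      refine ⟨⟨g, fun c hc => sub_eq_zero.mp ((hf c).trans (f.2.1.1 c hc)), fun v => by
        rw [hf]; exact f.2.1.2 v⟩, Subtype.ext ?_⟩
      show e g - 1 = f
      rw [hg, add_sub_cancel_left]
  -- a first quadratic offender
  let good : AddSubgroup V → Prop := fun C => NC G C ≠ ⊥ ∧ Nat.card V ≤ Nat.card (NC G C) * Nat.card C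
  have hgood : ∃ C, good C := by
    obtain ⟨A₀, hA₀⟩ := hF
    obtain ⟨A, hA, hmin⟩ := Finset.exists_min_image
      (Finset.univ.filter fun A : Subgroup G => A ≠ ⊥ ∧ (∀ a ∈ A, ∀ b ∈ A, a * b = b * a) ∧
        (∀ a ∈ A, a ^ p = 1) ∧ Nat.card V ≤ mS V A) (fun A => Nat.card A)
      ⟨A₀, Finset.mem_filter.mpr ⟨Finset.mem_univ _, hA₀⟩⟩
    obtain ⟨-, hA1, hA2, hA3, hA4⟩ := Finset.mem_filter.mp hA
    have hsub : ∀ B ≤ A, B ≠ ⊥ → B ≠ A → mS V B < Nat.card V := by
      intro B hB h0 h1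
      refine lt_of_not_ge fun h => h1 (Subgroup.eq_of_le_of_card_ge hB ?_)
      exact hmin B (Finset.mem_filter.mpr ⟨Finset.mem_univ _, h0, fun a ha b hb => hA2 a (hB ha) b (hB hb),
        fun a ha => hA3 a (hB ha), h⟩)
    obtain ⟨B, hB, hB0, hBe, hq⟩ := replacement hV A hA2 hA3 (fun a _ => hfaith a) hA1 (fun B hB => by
      rcases eq_or_ne B ⊥ with rfl | h0
      · refine le_trans ?_ hA4
        simp only [mS, Subgroup.card_bot, one_mul]
        exact Nat.card_le_card_of_injective _ Subtype.val_injective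
      rcases eq_or_ne B A with rfl | h1
      · exact le_rfl
      exact (hsub B hB h0 h1).le.trans hA4)
    have : B = A := by_contra fun h => absurd (hsub B hB hB0 h) (not_lt_of_ge (hBe ▸ hA4))
    subst this
    have hle : B ≤ NC G (fixS V B) := fun a ha => ⟨fun c hc => hc a ha, fun v b hb => hq b hb a ha v⟩
    exact ⟨fixS V B, fun h => hA1 (le_bot_iff.mp (h ▸ hle)),
      hA4.trans (Nat.mul_le_mul_right _ (Subgroup.card_le_of_le hle))⟩
  obtain ⟨N, hN⟩ := chain_top (G := G) hG hV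
  let μ : AddSubgroup V → ℕ := fun C => ∑ i ∈ Finset.range N, Nat.card ↥(C ⊓ chain G V i)
  obtain ⟨C, hC, hmax⟩ := Finset.exists_max_image (Finset.univ.filter good) μ
    (hgood.imp fun C h => Finset.mem_filter.mpr ⟨Finset.mem_univ _, h⟩)
  obtain ⟨-, hC0, hCoff⟩ := Finset.mem_filter.mp hC
  refine ⟨NC G C, hC0, hcomm C, hexp C, hCoff.trans (Nat.mul_le_mul_left _
    (AddSubgroup.card_le_of_le fun c hc a ha => ha.1 c hc)), fun a ha b hb v => hb.1 _ (ha.2 v), ?_⟩
  set D : Set G := {x : G | ∃ h : G, ∃ a ∈ NC G C, x = h * a * h⁻¹}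
  by_cases hH : ∀ x ∈ D, x ∈ stabA G C
  · intro g hg a ha
    have hgC : g ∈ stabA G C := (Subgroup.closure_le _).mpr hH hg
    refine ⟨fun c hc => ?_, fun v => ?_⟩
    · rw [mul_smul, mul_smul, ha.1 _ (((inv_mem hgC) c).mpr hc), smul_inv_smul]
    · rw [show (g * a * g⁻¹) • v - v = g • (a • (g⁻¹ • v) - g⁻¹ • v) by
        rw [smul_sub, mul_smul, mul_smul, smul_inv_smul]]
      exact (hgC _).mpr (ha.2 _)
  exfalso
  push_neg at hH
  have : Group.IsNilpotent G := hG.isNilpotent
  obtain ⟨x, ⟨h, a₁, ha₁, rfl⟩, hxH, hxn⟩ := exists_mem_normalizing Group.normalizerCondition_of_isNilpotent D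
    (fun g y ⟨k, a, ha, hy⟩ => ⟨g * k, a, ha, by rw [hy]; group⟩) (stabA G C) hH
  set x := h * a₁ * h⁻¹
  set β := e x - 1 with hβdef
  have hβ : ∀ v, β v = x • v - v := fun _ => rfl
  have hxq : ∀ v : V, x • (x • v - v) = x • v - v := fun v => by
    have e1 : x • v - v = h • (a₁ • (h⁻¹ • v) - h⁻¹ • v) := by
      rw [smul_sub, smul_inv_smul, mul_smul, mul_smul]
    rw [e1, mul_smul, mul_smul, inv_smul_smul, ha₁.1 _ (ha₁.2 _)]
  have hxi : ∀ v : V, x⁻¹ • v = v - β v := fun v => by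
    rw [inv_smul_eq_iff, hβ, smul_sub, hxq]; abel
  have hbb : β * β = 0 := AddMonoidHom.ext fun v => by
    show β (β v) = 0
    rw [hβ, hβ, hxq, sub_self]
  have hlim : Nat.card (logs hV M C) ≤ Nat.card (logs hV M (lim β C)) := by
    refine card_logs_le_lim hp hV M C β hbb ⟨x, (add_sub_cancel _ _).symm⟩ ⟨x⁻¹, AddMonoidHom.ext hxi⟩ ?_
    intro α hα c hc
    obtain ⟨a, ha⟩ := hα.2
    have hav : ∀ v, a • v = v + α v := fun v => DFunLike.congr_fun ha v
    have haC : a ∈ NC G C := ⟨fun c hc => by rw [hav, hα.1.1 c hc, add_zero], fun v => by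
      rw [hav, add_sub_cancel_left]; exact hα.1.2 v⟩
    have hstab : a ∈ stabA G C := by
      intro v
      constructor
      · intro h1
        have := sub_mem h1 (haC.2 v)
        rwa [sub_sub_cancel] at this
      · intro h1; rw [haC.1 v h1]; exact h1
    have h1 := ((hxn a ⟨1, a, haC, by group⟩ hstab) c).mpr hc
    rw [mul_smul, mul_smul, show x • c = c + β c by rw [hβ]; abel, hav, hxi, map_add, map_add, map_add,
      hα.1.1 c hc, zero_add, show β (β c) = 0 from DFunLike.congr_fun hbb c, add_zero] at h1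
    have h2 : c + β c + α (β c) - (β c + β (α (β c))) = c + (α (β c) - β (α (β c))) := by abel
    rw [h2] at h1
    have := sub_mem (add_mem hc (hα.1.2 (β c))) h1
    rwa [show c + α (β c) - (c + (α (β c) - β (α (β c)))) = β (α (β c)) by abel] at this
  rw [hlogs, hlogs] at hlim
  have hWgood : good (lim β C) := by
    refine ⟨fun h0 => ?_, ?_⟩
    · rw [h0, Subgroup.card_bot] at hlim
      exact hC0 (Subgroup.card_eq_one.mp (le_antisymm hlim Nat.card_pos))
    · rw [card_lim β hbb C]; exact hCoff.trans (Nat.mul_le_mul_right _ hlim)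
  -- the measure increases
  have hchain : ∀ i, Nat.card ↥(C ⊓ chain G V i) ≤ Nat.card ↥(lim β C ⊓ chain G V i) := by
    intro i
    rw [← card_lim β hbb (C ⊓ chain G V i)]
    refine AddSubgroup.card_le_of_le (sup_le ?_ ?_)
    · intro c hc
      obtain ⟨h1, h2⟩ := AddSubgroup.mem_inf.mp hc
      obtain ⟨h3, h4⟩ := AddSubgroup.mem_inf.mp h1
      exact AddSubgroup.mem_inf.mpr ⟨lim_left h3 (AddSubgroup.mem_inf.mp h2).1, h4⟩
    · rintro _ ⟨c, hc, rfl⟩
      obtain ⟨h1, h2⟩ := AddSubgroup.mem_inf.mp hc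
      exact AddSubgroup.mem_inf.mpr ⟨lim_right h1, sub_mem (chain_smul i x c h2) h2⟩
  have hmove : ∃ i, ∃ c ∈ C ⊓ chain G V i, β c ∉ C := by
    by_contra hne
    push_neg at hne
    have h1 : ∀ c ∈ C, β c ∈ C := fun c hc =>
      hne N c (AddSubgroup.mem_inf.mpr ⟨hc, hN ▸ AddSubgroup.mem_top c⟩)
    refine hxH fun v => ⟨fun hv => ?_, fun hv => ?_⟩
    · have := sub_mem hv (h1 _ hv)
      rwa [← hxi, inv_smul_smul] at this
    · have := add_mem (h1 v hv) hv
      rwa [hβ, sub_add_cancel] at this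
  set i := Nat.find hmove with hi
  obtain ⟨c, hc, hbc⟩ := Nat.find_spec hmove
  rw [← hi] at hc
  obtain ⟨hc1, hc2⟩ := AddSubgroup.mem_inf.mp hc
  have hiN : i ≤ N := Nat.find_min' hmove
    ⟨c, AddSubgroup.mem_inf.mpr ⟨hc1, hN ▸ AddSubgroup.mem_top c⟩, hbc⟩
  obtain ⟨j, hj⟩ : ∃ j, i = j + 1 := by
    refine ⟨i - 1, ?_⟩
    rcases Nat.eq_zero_or_pos i with h0 | h0
    · rw [h0, chain, AddSubgroup.mem_bot] at hc2
      exact absurd (by rw [hc2, map_zero]; exact zero_mem C) hbc
    · omega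
  have hlt : Nat.card ↥(C ⊓ chain G V j) < Nat.card ↥(lim β C ⊓ chain G V j) := by
    have hle : C ⊓ chain G V j ≤ lim β C ⊓ chain G V j := by
      intro y hy
      obtain ⟨h1, h2⟩ := AddSubgroup.mem_inf.mp hy
      refine AddSubgroup.mem_inf.mpr ⟨lim_left h1 (by_contra fun h3 => ?_), h2⟩
      exact Nat.find_min hmove (by omega : j < i) ⟨y, hy, h3⟩
    refine lt_of_not_ge fun hge => hbc ?_
    have heq := AddSubgroup.eq_of_le_of_card_ge hle hge
    have : β c ∈ lim β C ⊓ chain G V j := by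
      rw [hj] at hc2
      exact AddSubgroup.mem_inf.mpr ⟨lim_right hc1, hc2 x⟩
    rw [← heq] at this
    exact (AddSubgroup.mem_inf.mp this).1
  have h1 : μ C < μ (lim β C) :=
    Finset.sum_lt_sum (fun i _ => hchain i) ⟨j, Finset.mem_range.mpr (by omega), hlt⟩
  exact absurd (hmax _ (Finset.mem_filter.mpr ⟨Finset.mem_univ _, hWgood⟩)) (not_le_of_gt h1)

end Cfsg.Agent.H31.QuadLimit
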