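import Mathlib

/-!
The limit of a quadratic offender under a quadratically acting element.
-/

set_option autoImplicit false

namespace Cfsg.Agent.H31.QuadLimit

universe u

/-- A counting lemma: a family bounded by the leading coefficients. -/
theorem card_le_pow_leading {A M : Type*} [AddCommGroup A] [AddCommGroup M] [Finite A] [Finite M]
    (f : A →+ ℕ → M) (hinj : Function.Injective f) (L : AddSubgroup M) :
    ∀ N : ℕ, (∀ q k, (∀ m, k < m → f q m = 0) → f q k ∈ L) → (∀ q m, N ≤ m → f q m = 0) →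
      Nat.card A ≤ Nat.card L ^ N := by
  intro N hL hN
  let K : ℕ → AddSubgroup A := fun k =>
    { carrier := {q | ∀ m, k ≤ m → f q m = 0}
      zero_mem' := fun m _ => by rw [map_zero]; rfl
      add_mem' := fun {q r} hq hr m hm => by rw [map_add, Pi.add_apply, hq m hm, hr m hm, add_zero]
      neg_mem' := fun {q} hq m hm => by rw [map_neg, Pi.neg_apply, hq m hm, neg_zero] }
  have h : ∀ k, Nat.card (K k) ≤ Nat.card L ^ k := by
    intro k
    induction k with
    | zero =>
      have : K 0 = ⊥ := (AddSubgroup.eq_bot_iff_forall _).mpr fun q hq => hinj (by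
        rw [map_zero]; exact funext fun m => hq m (Nat.zero_le m))
      rw [this, AddSubgroup.card_bot, pow_zero]
    | succ k ih =>
      let g : K (k + 1) →+ L := AddMonoidHom.mk'
        (fun q => ⟨f q k, hL q k fun m hm => q.2 m hm⟩)
        (fun q r => Subtype.ext (by simp))
      have h1 := AddSubgroup.card_mul_index g.ker
      rw [AddSubgroup.index_ker] at h1
      rw [← h1, pow_succ]
      refine Nat.mul_le_mul (le_trans ?_ ih)
        (Nat.card_le_card_of_injective _ Subtype.val_injective)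
      refine Nat.card_le_card_of_injective (fun q => (⟨q.1.1, fun m hm => ?_⟩ : K k)) fun q r e =>
        Subtype.ext (Subtype.ext (congrArg Subtype.val e :))
      rcases hm.lt_or_eq with h | h
      · exact q.1.2 m h
      · subst h; exact congrArg Subtype.val q.2
  refine le_trans (le_of_eq ?_) (h N)
  rw [show K N = ⊤ from eq_top_iff.mpr fun q _ m hm => hN q m hm, AddSubgroup.card_top]

theorem le_of_pow_le_pow_add_two {a l : ℕ} (hl : 0 < l) (h : ∀ n, a ^ n ≤ l ^ (n + 2)) : a ≤ l := by
  by_contra hc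
  have h1 : ∀ n, (n + 1) * l ^ n ≤ (l + 1) ^ (n + 1) := by
    intro n
    induction n with
    | zero => simp
    | succ n ih =>
      calc (n + 1 + 1) * l ^ (n + 1) = (n + 1) * l ^ n * l + l ^ (n + 1) := by ring
        _ ≤ (l + 1) ^ (n + 1) * l + (l + 1) ^ (n + 1) :=
          Nat.add_le_add (Nat.mul_le_mul_right _ ih) (Nat.pow_le_pow_left (Nat.le_succ l) _)
        _ = _ := by ring
  have h2 := (h1 (l ^ 3)).trans ((Nat.pow_le_pow_left (by omega : l + 1 ≤ a) _).trans (h (l ^ 3 + 1)))
  have h3 : l ^ 3 * l ^ l ^ 3 = l ^ (l ^ 3 + 1 + 2) := by rw [← pow_add]; congr 1; omega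
  have h4 : 0 < l ^ l ^ 3 := Nat.pow_pos hl
  rw [← h3] at h2
  have := Nat.le_of_mul_le_mul_right h2 h4
  omega

variable {V : Type u} [AddCommGroup V]

local notation "E" => AddMonoid.End V

/-- The endomorphisms killing `C` with image in `C`. -/
def shape (C : AddSubgroup V) : AddSubgroup E where
  carrier := {f | (∀ c ∈ C, f c = 0) ∧ ∀ v, f v ∈ C}
  zero_mem' := ⟨fun _ _ => rfl, fun _ => zero_mem C⟩
  add_mem' := fun {f g} hf hg =>
    ⟨fun c hc => by show f c + g c = 0; rw [hf.1 c hc, hg.1 c hc, add_zero],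
      fun v => add_mem (hf.2 v) (hg.2 v)⟩
  neg_mem' := fun {f} hf =>
    ⟨fun c hc => by show -f c = 0; rw [hf.1 c hc, neg_zero], fun v => neg_mem (hf.2 v)⟩

theorem mem_shape {C : AddSubgroup V} {f : E} : f ∈ shape C ↔ (∀ c ∈ C, f c = 0) ∧ ∀ v, f v ∈ C := Iff.rfl

theorem shape_mul {C : AddSubgroup V} {f g : E} (hf : f ∈ shape C) (hg : g ∈ shape C) : f * g = 0 :=
  AddMonoidHom.ext fun v => hf.1 _ (hg.2 v)

theorem nsmul_eq_zero_end {p : ℕ} (hV : ∀ v : V, p • v = 0) (f : E) : p • f = 0 :=
  AddMonoidHom.ext fun v => hV (f v)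

/-- The logarithms of the elements of a monoid having shape `C`. -/
def logs {p : ℕ} [NeZero p] (hV : ∀ v : V, p • v = 0) (G : Submonoid E) (C : AddSubgroup V) :
    AddSubgroup E where
  carrier := {f | f ∈ shape C ∧ 1 + f ∈ G}
  zero_mem' := ⟨zero_mem _, by rw [add_zero]; exact one_mem G⟩
  add_mem' := fun {f g} hf hg => ⟨add_mem hf.1 hg.1, by
    have e : 1 + (f + g) = (1 + f) * (1 + g) := by
      rw [mul_add, mul_one, add_mul, one_mul, shape_mul hf.1 hg.1, add_zero, add_assoc]
    rw [e]; exact mul_mem hf.2 hg.2⟩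
  neg_mem' := fun {f} hf => by
    have key : ∀ n : ℕ, n • f ∈ shape C ∧ 1 + n • f ∈ G := by
      intro n
      induction n with
      | zero => exact ⟨by rw [zero_smul]; exact zero_mem _, by rw [zero_smul, add_zero]; exact one_mem G⟩
      | succ n ih =>
        refine ⟨by rw [succ_nsmul]; exact add_mem ih.1 hf.1, ?_⟩
        have e : 1 + (n + 1) • f = (1 + n • f) * (1 + f) := by
          rw [mul_add, mul_one, add_mul, one_mul, shape_mul ih.1 hf.1, add_zero, succ_nsmul, add_assoc]
        rw [e]; exact mul_mem ih.2 hf.2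
    have e : -f = (p - 1) • f := by
      rw [neg_eq_iff_add_eq_zero, ← succ_nsmul', Nat.sub_add_cancel (NeZero.pos p)]
      exact nsmul_eq_zero_end hV f
    rw [e]; exact key _

theorem mem_logs {p : ℕ} [NeZero p] {hV : ∀ v : V, p • v = 0} {G : Submonoid E} {C : AddSubgroup V}
    {f : E} : f ∈ logs hV G C ↔ f ∈ shape C ∧ 1 + f ∈ G := Iff.rfl

/-- The limit of `C` under the translates by the powers of `1 + β`. -/
def lim (β : E) (C : AddSubgroup V) : AddSubgroup V := (C ⊓ C.comap β) ⊔ C.map β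

theorem lim_left {β : E} {C : AddSubgroup V} {c : V} (hc : c ∈ C) (hb : β c ∈ C) : c ∈ lim β C :=
  AddSubgroup.mem_sup_left (AddSubgroup.mem_inf.mpr ⟨hc, hb⟩)

theorem lim_right {β : E} {C : AddSubgroup V} {c : V} (hc : c ∈ C) : β c ∈ lim β C :=
  AddSubgroup.mem_sup_right ⟨c, hc, rfl⟩

theorem shape_lim {β f : E} {C : AddSubgroup V} (h1 : ∀ c ∈ C, β c ∈ C → f c = 0)
    (h2 : ∀ c ∈ C, f (β c) = 0) (h3 : ∀ v, f v ∈ lim β C) : f ∈ shape (lim β C) := by
  refine ⟨fun w hw => ?_, h3⟩
  obtain ⟨c, hc, d, ⟨c', hc', rfl⟩, rfl⟩ := AddSubgroup.mem_sup.mp hw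
  show f (c + β c') = 0
  rw [map_add, h1 c (AddSubgroup.mem_inf.mp hc).1 (AddSubgroup.mem_inf.mp hc).2, h2 c' hc', add_zero]

section algebra

variable {R : Type*} [Ring R]

theorem conj_expand (β α : R) (hb : β * β = 0) (ha : α * α = 0) :
    (1 + β) * (1 + α) * (1 - β) * (1 - α) =
      1 + ((β * α - α * β) - β * α * β + α * β * α + β * α * β * α) := by
  have hb' : ∀ x, β * (β * x) = 0 := fun x => by rw [← mul_assoc, hb, zero_mul]
  have ha' : ∀ x, α * (α * x) = 0 := fun x => by rw [← mul_assoc, ha, zero_mul]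
  simp only [mul_add, add_mul, mul_sub, sub_mul, one_mul, mul_one, mul_assoc, hb, ha, hb', ha', mul_zero,
    add_zero, zero_add, sub_zero, zero_sub]
  abel

theorem conj_inv_expand (β α : R) (hb : β * β = 0) (ha : α * α = 0) :
    (1 + α) * (1 + β) * (1 - α) * (1 - β) =
      1 + (-(β * α - α * β) + β * α * β - α * β * α + α * β * α * β) := by
  have hb' : ∀ x, β * (β * x) = 0 := fun x => by rw [← mul_assoc, hb, zero_mul]
  have ha' : ∀ x, α * (α * x) = 0 := fun x => by rw [← mul_assoc, ha, zero_mul]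
  simp only [mul_add, add_mul, mul_sub, sub_mul, one_mul, mul_one, mul_assoc, hb, ha, hb', ha', mul_zero,
    add_zero, zero_add, sub_zero, zero_sub]
  abel

theorem double_comm_expand (β α : R) (hb : β * β = 0) (ha : α * α = 0)
    (h5 : α * (β * (α * (β * α))) = 0) :
    (1 + β) * (1 + ((β * α - α * β) - β * α * β + α * β * α + β * α * β * α)) * (1 - β) *
        (1 + (-(β * α - α * β) + β * α * β - α * β * α + α * β * α * β)) =
      1 + (-(2 • (β * α * β)) + (β * α * β * α - α * β * α * β) - 4 • (β * α * β * α * β)) := by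
  have hb' : ∀ x, β * (β * x) = 0 := fun x => by rw [← mul_assoc, hb, zero_mul]
  have ha' : ∀ x, α * (α * x) = 0 := fun x => by rw [← mul_assoc, ha, zero_mul]
  have h5' : ∀ x, α * (β * (α * (β * (α * x)))) = 0 := fun x => by
    simpa [mul_assoc] using congrArg (· * x) h5
  simp only [mul_add, add_mul, mul_sub, sub_mul, neg_mul, mul_neg, one_mul, mul_one, mul_assoc, hb, ha, hb',
    ha', h5, h5', mul_zero, zero_mul, add_zero, zero_add, sub_zero, zero_sub, neg_zero]
  abel

theorem conj_a_expand (β α : R) (hb : β * β = 0) (ha : α * α = 0)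
    (h5 : α * (β * (α * (β * α))) = 0) :
    (1 + ((β * α - α * β) - β * α * β + α * β * α + β * α * β * α)) * (1 + α) *
        (1 + (-(β * α - α * β) + β * α * β - α * β * α + α * β * α * β)) =
      1 + (α - 2 • (α * β * α) - (β * α * β * α - α * β * α * β)) := by
  have hb' : ∀ x, β * (β * x) = 0 := fun x => by rw [← mul_assoc, hb, zero_mul]
  have ha' : ∀ x, α * (α * x) = 0 := fun x => by rw [← mul_assoc, ha, zero_mul]
  have h5' : ∀ x, α * (β * (α * (β * (α * x)))) = 0 := fun x => by
    simpa [mul_assoc] using congrArg (· * x) h5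
  simp only [mul_add, add_mul, mul_sub, sub_mul, neg_mul, mul_neg, one_mul, mul_one, mul_assoc, hb, ha, hb',
    ha', h5, h5', mul_zero, zero_mul, add_zero, zero_add, sub_zero, zero_sub, neg_zero]
  abel

/-- The group word with logarithm `α + [β, α']`. -/
theorem word_expand (β α α' γ : R) (hb : β * β = 0) (hrel : β * α' * β = γ + (β * α - α * β))
    (hgb : γ * β = -(β * α * β))
    (haa : α * α = 0) (haa' : α * α' = 0) (ha'a : α' * α = 0) (ha'a' : α' * α' = 0)
    (hag : α * γ = 0) (hga : γ * α = 0) (ha'g : α' * γ = 0) (hga' : γ * α' = 0) :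
    (1 + α * β * α) * ((1 + α) * ((1 - α' * β * α') *
        (1 + ((β * α' - α' * β) - β * α' * β + α' * β * α' + β * α' * β * α'))) * (1 + β * α' * β)) =
      1 + (α + (β * α' - α' * β)) := by
  have hb' : ∀ x, β * (β * x) = 0 := fun x => by rw [← mul_assoc, hb, zero_mul]
  have l1 : ∀ x, α * (α * x) = 0 := fun x => by rw [← mul_assoc, haa, zero_mul]
  have l2 : ∀ x, α * (α' * x) = 0 := fun x => by rw [← mul_assoc, haa', zero_mul]
  have l3 : ∀ x, α' * (α * x) = 0 := fun x => by rw [← mul_assoc, ha'a, zero_mul]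
  have l4 : ∀ x, α' * (α' * x) = 0 := fun x => by rw [← mul_assoc, ha'a', zero_mul]
  have aY : α * (β * (α' * β)) = α * (β * α) := by
    rw [← mul_assoc β, hrel, mul_add, hag, zero_add, mul_sub, l1, sub_zero]
  have a'Y : α' * (β * (α' * β)) = α' * (β * α) := by
    rw [← mul_assoc β, hrel, mul_add, ha'g, zero_add, mul_sub, l3, sub_zero]
  have Ya : β * (α' * (β * α)) = -(α * (β * α)) := by
    rw [← mul_assoc α', ← mul_assoc β, ← mul_assoc β α' β, hrel, add_mul, hga, zero_add, sub_mul,
      mul_assoc β α α, haa, mul_zero, zero_sub, mul_assoc]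
  have Ya' : β * (α' * (β * α')) = -(α * (β * α')) := by
    rw [← mul_assoc α', ← mul_assoc β, ← mul_assoc β α' β, hrel, add_mul, hga', zero_add, sub_mul,
      mul_assoc β α α', haa', mul_zero, zero_sub, mul_assoc]
  have S0 : α * (β * (α * β)) = 0 := by
    have : β * α * β = -(γ * β) := by rw [hgb, neg_neg]
    rw [← mul_assoc β, this, mul_neg, ← mul_assoc, hag, zero_mul, neg_zero]
  have S0' : ∀ x, α * (β * (α * (β * x))) = 0 := fun x => by
    simpa [mul_assoc] using congrArg (· * x) S0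
  have aY' : ∀ x, α * (β * (α' * (β * x))) = α * (β * (α * x)) := fun x => by
    simpa [mul_assoc] using congrArg (· * x) aY
  have a'Y' : ∀ x, α' * (β * (α' * (β * x))) = α' * (β * (α * x)) := fun x => by
    simpa [mul_assoc] using congrArg (· * x) a'Y
  have Yad : ∀ x, β * (α' * (β * (α * x))) = -(α * (β * (α * x))) := fun x => by
    simpa [mul_assoc] using congrArg (· * x) Ya
  have Yad' : ∀ x, β * (α' * (β * (α' * x))) = -(α * (β * (α' * x))) := fun x => by
    simpa [mul_assoc] using congrArg (· * x) Ya'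
  simp only [mul_add, add_mul, mul_sub, sub_mul, neg_mul, mul_neg, one_mul, mul_one, mul_assoc, hb, hb', haa,
    haa', ha'a, ha'a', l1, l2, l3, l4, aY, a'Y, Ya, Ya', S0, S0', aY', a'Y', Yad, Yad', mul_zero, zero_mul,
    add_zero, zero_add, sub_zero, zero_sub, neg_zero, neg_neg]
  abel

end algebra

theorem card_logs_le_lim [Finite V] {p : ℕ} [Fact p.Prime] (hp : 5 ≤ p) (hV : ∀ v : V, p • v = 0)
    (G : Submonoid E) (C : AddSubgroup V) (β : E) (hbb : β * β = 0) (hb : 1 + β ∈ G) (hb' : 1 - β ∈ G)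
    (hF : ∀ α ∈ logs hV G C, ∀ c ∈ C, β (α (β c)) ∈ C) :
    Nat.card (logs hV G C) ≤ Nat.card (logs hV G (lim β C)) := by
  classical
  have : Finite E := Finite.of_injective (fun f : E => (f : V → V)) DFunLike.coe_injective
  set A := logs hV G C with hA
  set N := logs hV G (lim β C) with hN
  have hkill : ∀ {α}, α ∈ A → ∀ {c}, c ∈ C → α c = 0 := fun {α} h {c} hc => h.1.1 c hc
  have him : ∀ {α}, α ∈ A → ∀ v, α v ∈ C := fun {α} h => h.1.2
  have hmul : ∀ {α α'}, α ∈ A → α' ∈ A → α * α' = 0 := fun {α α'} h h' => shape_mul h.1 h'.1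
  have hF' : ∀ {α α₂ α₃}, α ∈ A → α₂ ∈ A → α₃ ∈ A → α₂ * (β * (α * (β * α₃))) = 0 :=
    fun {α α₂ α₃} h h2 h3 => AddMonoidHom.ext fun v => hkill h2 (hF α h _ (him h3 v))
  have bb : ∀ v, β (β v) = 0 := fun v => DFunLike.congr_fun hbb v
  have hinv : ∀ {α}, α ∈ A → 1 - α ∈ G := fun {α} h => by
    rw [sub_eq_add_neg]; exact (neg_mem h : -α ∈ A).2
  have hd : ∀ {α}, α ∈ A →
      1 + ((β * α - α * β) - β * α * β + α * β * α + β * α * β * α) ∈ G ∧
      1 + (-(β * α - α * β) + β * α * β - α * β * α + α * β * α * β) ∈ G := fun {α} h =>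
    ⟨conj_expand β α hbb (hmul h h) ▸ mul_mem (mul_mem (mul_mem hb h.2) hb') (hinv h),
     conj_inv_expand β α hbb (hmul h h) ▸ mul_mem (mul_mem (mul_mem h.2 hb) (hinv h)) hb'⟩
  -- the double commutators
  let Y : E → E := fun α => β * α * β
  let Z : E → E := fun α => β * α * β * α - α * β * α * β
  let Q : E → E := fun α => β * α * β * α * β
  have hshape_e : ∀ {α}, α ∈ A →
      Y α ∈ shape (lim β C) ∧ Z α ∈ shape (lim β C) ∧ Q α ∈ shape (lim β C) ∧ Z α ∈ shape C ∧
      Q α ∈ shape C := by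
    intro α h
    have hZC : Z α ∈ shape C := by
      refine ⟨fun c hc => ?_, fun v => ?_⟩
      · show β (α (β (α c))) - α (β (α (β c))) = 0
        rw [hkill h hc, hkill h (hF α h c hc), map_zero, map_zero, map_zero, sub_zero]
      · exact sub_mem (hF α h _ (him h v)) (him h _)
    have hQC : Q α ∈ shape C := ⟨fun c hc => by
        show β (α (β (α (β c)))) = 0
        rw [hkill h (hF α h c hc), map_zero],
      fun v => hF α h _ (him h (β v))⟩
    refine ⟨shape_lim (fun c _ hbc => ?_) (fun c _ => ?_) (fun v => ?_), shape_lim (fun c hc _ => hZC.1 c hc)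
      (fun c hc => ?_) (fun v => ?_), shape_lim (fun c _ hbc => ?_) (fun c _ => ?_) (fun v => ?_), hZC, hQC⟩
    · show β (α (β c)) = 0; rw [hkill h hbc, map_zero]
    · show β (α (β (β c))) = 0; rw [bb, map_zero, map_zero]
    · exact lim_right (him h _)
    · show β (α (β (α (β c)))) - α (β (α (β (β c)))) = 0
      rw [hkill h (hF α h c hc), map_zero, bb, map_zero, map_zero, map_zero, sub_zero]
    · refine sub_mem (lim_right (him h _)) (lim_left (him h _) ?_)
      exact hF α h _ (him h (β v))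
    · show β (α (β (α (β c)))) = 0; rw [hkill h hbc, map_zero, map_zero, map_zero]
    · show β (α (β (α (β (β c))))) = 0; rw [bb, map_zero, map_zero, map_zero, map_zero]
    · exact lim_right (him h _)
  have he : ∀ {α}, α ∈ A → -(2 • Y α) + Z α - 4 • Q α ∈ N := by
    intro α h
    obtain ⟨s1, s2, s3, -, -⟩ := hshape_e h
    refine ⟨sub_mem (add_mem (neg_mem (nsmul_mem s1 2)) s2) (nsmul_mem s3 4), ?_⟩
    rw [show -(2 • Y α) + Z α - 4 • Q α = _ from rfl,
      ← double_comm_expand β α hbb (hmul h h) (hF' h h h)]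
    exact mul_mem (mul_mem (mul_mem hb (hd h).1) hb') (hd h).2
  have hfrom : ∀ {k : ℕ}, 0 < k → k < p → ∀ {S : AddSubgroup E} {x}, k • x ∈ S → x ∈ S := by
    intro k hk0 hk S x hx
    have hco : k.Coprime p := (Nat.coprime_of_lt_prime hk0.ne' hk (Fact.out : p.Prime)).symm
    have h1 := Nat.gcd_eq_gcd_ab k p
    rw [hco.gcd_eq_one] at h1
    have h2 : x = Nat.gcdA k p • (k • x) := by
      conv_lhs => rw [← one_smul ℤ x, ← Nat.cast_one (R := ℤ), h1]
      rw [add_smul, mul_comm (k : ℤ), mul_comm (p : ℤ), mul_smul, mul_smul, natCast_zsmul, natCast_zsmul,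
        nsmul_eq_zero_end hV x, zsmul_zero, add_zero]
    rw [h2]; exact zsmul_mem hx _
  have hYN : ∀ {α}, α ∈ A → Y α ∈ N := by
    intro α h
    refine hfrom (k := 4) (by norm_num) (by omega) ?_
    have e : 4 • Y α = (-(2 • Y (-α)) + Z (-α) - 4 • Q (-α)) - (-(2 • Y α) + Z α - 4 • Q α) := by
      have h1 : Y (-α) = -Y α ∧ Z (-α) = Z α ∧ Q (-α) = Q α := by simp [Y, Z, Q]
      rw [h1.1, h1.2.1, h1.2.2]; abel
    rw [e]; exact sub_mem (he (neg_mem h)) (he h)
  have hPC : ∀ {α}, α ∈ A → α * β * α ∈ shape C := fun {α} h =>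
    ⟨fun c hc => by show α (β (α c)) = 0; rw [hkill h hc, map_zero, map_zero], fun v => him h _⟩
  have hW : ∀ {α}, α ∈ A → 2 • (α * β * α) + Z α ∈ A := by
    intro α h
    have h1 : α - 2 • (α * β * α) - Z α ∈ A := by
      refine ⟨sub_mem (sub_mem h.1 (nsmul_mem (hPC h) 2)) (hshape_e h).2.2.2.1, ?_⟩
      rw [show α - 2 • (α * β * α) - Z α = _ from rfl, ← conj_a_expand β α hbb (hmul h h) (hF' h h h)]
      exact mul_mem (mul_mem (hd h).1 h.2) (hd h).2
    rw [show 2 • (α * β * α) + Z α = α - (α - 2 • (α * β * α) - Z α) by abel]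
    exact sub_mem h h1
  have hQ : ∀ {α}, α ∈ A → Q α ∈ A ∧ Q α ∈ N := by
    intro α h
    have h1 : Q α ∈ N := by
      refine hfrom (k := 2) (by norm_num) (by omega) ?_
      have e : 2 • Q α = Y (2 • (α * β * α) + Z α) := by
        simp only [Y, Z, Q, mul_add, add_mul, mul_sub, sub_mul, mul_smul_comm, smul_mul_assoc, mul_assoc, hbb,
          mul_zero, ← mul_assoc β β, zero_mul, sub_zero, add_zero]
      rw [e]; exact hYN (hW h)
    exact ⟨⟨(hshape_e h).2.2.2.2, h1.2⟩, h1⟩
  have hP : ∀ {α}, α ∈ A → α * β * α ∈ A := by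
    intro α h
    have hZN : Z α ∈ N := by
      rw [show Z α = (-(2 • Y α) + Z α - 4 • Q α) + 2 • Y α + 4 • Q α by abel]
      exact add_mem (add_mem (he h) (nsmul_mem (hYN h) 2)) (nsmul_mem (hQ h).2 4)
    have hZA : Z α ∈ A := ⟨(hshape_e h).2.2.2.1, hZN.2⟩
    refine hfrom (k := 2) (by norm_num) (by omega) ?_
    rw [show 2 • (α * β * α) = (2 • (α * β * α) + Z α) - Z α by abel]
    exact sub_mem (hW h) hZA
  -- the leading coefficients
  have hlead : ∀ {γ α α' α''}, γ ∈ A → α ∈ A → α' ∈ A → α'' ∈ A →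
      γ + (β * α - α * β) - Y α' = 0 → α + (β * α' - α' * β) - Y α'' ∈ N := by
    intro γ α α' α'' hg ha ha' ha'' h0
    have hrel : β * α' * β = γ + (β * α - α * β) := (sub_eq_zero.mp h0).symm
    have hgb : γ * β = -(β * α * β) := by
      have h1 := congrArg (· * β) hrel
      simp only [add_mul, sub_mul, mul_assoc, hbb, mul_zero, sub_zero] at h1
      rw [eq_neg_iff_add_eq_zero, mul_assoc]; exact h1.symm
    refine sub_mem ⟨?_, ?_⟩ (hYN ha'')
    · refine shape_lim (fun c hc hbc => ?_) (fun c hc => ?_) (fun v => ?_)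
      · show α c + (β (α' c) - α' (β c)) = 0
        rw [hkill ha hc, hkill ha' hc, hkill ha' hbc, map_zero, sub_zero, add_zero]
      · show α (β c) + (β (α' (β c)) - α' (β (β c))) = 0
        rw [bb, map_zero, sub_zero, show β (α' (β c)) = γ c + (β (α c) - α (β c)) from
          DFunLike.congr_fun hrel c, hkill hg hc, hkill ha hc, map_zero]
        abel
      · show α v + (β (α' v) - α' (β v)) ∈ _
        rw [show α v + (β (α' v) - α' (β v)) = (α v - α' (β v)) + β (α' v) by abel]
        refine add_mem (lim_left (sub_mem (him ha v) (him ha' _)) ?_) (lim_right (him ha' v))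
        rw [map_sub, show β (α' (β v)) = γ v + (β (α v) - α (β v)) from DFunLike.congr_fun hrel v,
          show β (α v) - (γ v + (β (α v) - α (β v))) = α (β v) - γ v by abel]
        exact sub_mem (him ha _) (him hg v)
    · rw [← word_expand β α α' γ hbb hrel hgb (hmul ha ha) (hmul ha ha') (hmul ha' ha) (hmul ha' ha')
        (hmul ha hg) (hmul hg ha) (hmul ha' hg) (hmul hg ha')]
      exact mul_mem (hP ha).2 (mul_mem (mul_mem ha.2 (mul_mem (hinv (hP ha')) (hd ha').1)) (hYN ha').2)
  -- counting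
  refine le_of_pow_le_pow_add_two Nat.card_pos fun n => ?_
  let ext : (Fin n → A) → ℕ → E := fun q j =>
    if h : 2 ≤ j ∧ j - 2 < n then (q ⟨j - 2, h.2⟩ : E) else 0
  have hext_mem : ∀ q j, ext q j ∈ A := fun q j => by
    show (if h : _ then _ else _) ∈ A
    split
    · exact SetLike.coe_mem _
    · exact zero_mem _
  have hext_add : ∀ q r j, ext (q + r) j = ext q j + ext r j := fun q r j => by
    show (if h : _ then _ else _) = (if h : _ then _ else _) + (if h : _ then _ else _)
    by_cases h : 2 ≤ j ∧ j - 2 < n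
    · rw [dif_pos h, dif_pos h, dif_pos h]; rfl
    · rw [dif_neg h, dif_neg h, dif_neg h, add_zero]
  have hext0 : ∀ q j, (j < 2 ∨ n + 2 ≤ j) → ext q j = 0 := fun q j hj => dif_neg (by omega)
  let f : (Fin n → A) →+ ℕ → E := AddMonoidHom.mk'
    (fun q m => ext q (m + 2) + (β * ext q (m + 1) - ext q (m + 1) * β) - Y (ext q m)) fun q r => funext fun m => by
      simp only [Y, Pi.add_apply, hext_add, mul_add, add_mul]
      abel
  have hinj : Function.Injective f := (injective_iff_map_eq_zero f).mpr fun q hq => by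
    have h : ∀ j, ext q j = 0 := fun j => by
      induction j using Nat.strong_induction_on with
      | _ j ih =>
        rcases Nat.lt_or_ge j 2 with h2 | h2
        · exact hext0 q j (Or.inl h2)
        have h1 := congrFun hq (j - 2)
        change ext q (j - 2 + 2) + (β * ext q (j - 2 + 1) - ext q (j - 2 + 1) * β) - Y (ext q (j - 2)) = 0 at h1
        rw [ih (j - 2 + 1) (by omega), ih (j - 2) (by omega), show j - 2 + 2 = j by omega] at h1
        simpa [Y] using h1
    funext i
    have h1 := h (i + 2)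
    rw [show ext q (i + 2) = (q i : E) from (dif_pos ⟨by omega, by omega⟩).trans (by simp)] at h1
    exact Subtype.ext h1
  have := card_le_pow_leading f hinj N (n + 2)
    (fun q k hk => hlead (hext_mem q (k + 3)) (hext_mem q (k + 2)) (hext_mem q (k + 1)) (hext_mem q k)
      (hk (k + 1) (Nat.lt_succ_self k)))
    (fun q m hm => by
      show ext q (m + 2) + (β * ext q (m + 1) - ext q (m + 1) * β) - Y (ext q m) = 0
      rw [hext0 q (m + 2) (Or.inr (by omega)), hext0 q (m + 1) (Or.inr (by omega)), hext0 q m (Or.inr hm)]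
      simp [Y])
  rwa [Nat.card_pi, Finset.prod_const, Finset.card_univ, Fintype.card_fin] at this

end Cfsg.Agent.H31.QuadLimit
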